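import Groth.Agent.SimpConnLib.Birat
import Groth.Agent.FieldsMiscLib.Basic

/-! # Degrees of covers with a point in a finitely generated field -/

set_option autoImplicit false
set_option linter.style.haveILetI false
set_option backward.isDefEq.respectTransparency false
set_option backward.isDefEq.respectTransparency.types false
set_option maxHeartbeats 1000000

universe u

open CategoryTheory CategoryTheory.Limits AlgebraicGeometry WeightLib

noncomputable section

namespace SimpConnLib

theorem finite_algebraicClosure {k M : Type u} [Field k] [Field M] [Algebra k M] [Algebra.EssFiniteType k M]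
    {F : Type u} [Field F] [Algebra F M] [Algebra k F] [IsScalarTower k F M] :
    FiniteDimensional F (algebraicClosure F M) := by
  haveI : Algebra.EssFiniteType F M := Algebra.EssFiniteType.of_comp k F M
  exact FieldsMiscLib.algebraicClosure_finite_of_fg (IntermediateField.fg_top F M)

theorem finrank_le_of_algHom {F M L : Type u} [Field F] [Field M] [Field L] [Algebra F M] [Algebra F L]
    [FiniteDimensional F L] [FiniteDimensional F (algebraicClosure F M)] (e : L →ₐ[F] M) :
    Module.finrank F L ≤ Module.finrank F (algebraicClosure F M) := by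
  have hmem : ∀ l, e l ∈ algebraicClosure F M := fun l =>
    mem_algebraicClosure_iff.2 ((IsAlgebraic.of_finite F l).algHom e)
  let e' : L →ₐ[F] algebraicClosure F M := e.codRestrict (algebraicClosure F M).toSubalgebra hmem
  exact LinearMap.finrank_le_finrank_of_injective (f := e'.toLinearMap) e'.injective

theorem eq_genericPoint_of_map {X Z : Scheme.{u}} [IsIntegral X] [IsIntegral Z] (f : Z ⟶ X) [IsFinite f] [Etale f]
    (z : Z) (hz : f z = genericPoint X) : z = genericPoint Z := by
  have hs : genericPoint Z ⤳ z := genericPoint_specializes z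
  have hg : f (genericPoint Z) = genericPoint X :=
    (hz ▸ hs.map f.continuous).antisymm (genericPoint_specializes _) |>.eq
  haveI : DiscreteTopology (f ⁻¹' {genericPoint X} : Set Z) :=
    isDiscrete_iff_discreteTopology.1 (f.isDiscrete_preimage_singleton (genericPoint X))
  have hs' : (⟨genericPoint Z, hg⟩ : (f ⁻¹' {genericPoint X} : Set Z)) ⤳ ⟨z, hz⟩ :=
    Topology.IsInducing.subtypeVal.specializes_iff.1 hs
  exact (congrArg Subtype.val (specializes_iff_eq.1 hs')).symm

/-- A cover with a point in a finitely generated field has bounded degree. -/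
theorem exists_bound {k : Type u} [Field k] {X : Scheme.{u}} [IsIntegral X] (sX : X ⟶ Spec (CommRingCat.of k))
    (M : Type u) [Field M] [Algebra k M] [Algebra.EssFiniteType k M] (a : Spec (CommRingCat.of M) ⟶ X)
    (ha : a ≫ sX = Spec.map (CommRingCat.ofHom (algebraMap k M)))
    (haη : img a = genericPoint X) :
    ∃ d : ℕ, ∀ (Z : FEt.Cat X), IsIntegral Z.left → (∃ t : Spec (CommRingCat.of M) ⟶ Z.left, t ≫ Z.hom = a) →
      ∀ (Ω : Type u) [Field Ω] [IsAlgClosed Ω] (ξ : Spec (CommRingCat.of Ω) ⟶ X), img ξ = genericPoint X →
        Nat.card (FEt.fiberObj ξ Z) ≤ d := by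
  obtain ⟨ev, hev⟩ := exists_eq_specMap_fromSpecResidueField a haη
  let η := genericPoint X
  let r : CommRingCat.of k ⟶ X.residueField η := Spec.preimage (X.fromSpecResidueField η ≫ sX)
  letI : Algebra k (X.residueField η) := r.hom.toAlgebra
  letI : Algebra (X.residueField η) M := ev.hom.toAlgebra
  haveI : IsScalarTower k (X.residueField η) M := by
    refine IsScalarTower.of_algebraMap_eq' ?_
    have h : CommRingCat.ofHom (algebraMap k M) = r ≫ ev := Spec.map_injective (by
      rw [Spec.map_comp, Spec.map_preimage, ← Category.assoc, hev, ha])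
    exact congrArg CommRingCat.Hom.hom h
  haveI := finite_algebraicClosure (k := k) (M := M) (F := X.residueField η)
  refine ⟨Module.finrank (X.residueField η) (algebraicClosure (X.residueField η) M), ?_⟩
  rintro Z hZ ⟨t, ht⟩ Ω _ _ ξ hξ
  let f : Z.left ⟶ X := Z.hom
  haveI : IsFinite f := Z.prop.1
  haveI : Etale f := Z.prop.2
  haveI : LocallyQuasiFinite f := locallyQuasiFinite_of_etale _
  let ζ := genericPoint Z.left
  have htf : f (img t) = η := by rw [← img_comp]; exact (congrArg img ht).trans haη
  have htζ : img t = ζ := eq_genericPoint_of_map f _ htf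
  have hfζ : f ζ = η := htζ ▸ htf
  have huniq : ∀ p : GPts f ξ, img p.1 = ζ := fun p => eq_genericPoint_of_map f _ ((img_mem_fibre f p).trans hξ)
  obtain ⟨-, hc, -⟩ := card_gptsAt f ζ ξ (hfζ.trans hξ.symm)
  letI := (f.residueFieldMap ζ).hom.toAlgebra
  haveI : Module.Finite (X.residueField (f ζ)) (Z.left.residueField ζ) :=
    RingHom.finite_algebraMap.mp (finite_residueFieldMap f ζ)
  have h1 : Nat.card (FEt.fiberObj ξ Z) = Nat.card {p : GPts f ξ // img p.1 = ζ} :=
    Nat.card_congr (Equiv.subtypeUnivEquiv huniq).symm
  rw [h1, hc]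
  refine (Field.finSepDegree_le_finrank _ _).trans ?_
  clear hc h1
  obtain ⟨e, he⟩ := exists_eq_specMap_fromSpecResidueField t htζ
  have key : ∀ (y : X) (hy : f ζ = y) (evy : X.residueField y ⟶ CommRingCat.of M),
      Spec.map evy ≫ X.fromSpecResidueField y = a →
      (letI := evy.hom.toAlgebra; FiniteDimensional (X.residueField y) (algebraicClosure (X.residueField y) M)) →
      Module.finrank (X.residueField (f ζ)) (Z.left.residueField ζ) ≤
        (letI := evy.hom.toAlgebra; Module.finrank (X.residueField y) (algebraicClosure (X.residueField y) M)) := by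
    rintro _ rfl evy hy hfin
    letI := evy.hom.toAlgebra
    haveI := hfin
    have hcomm : f.residueFieldMap ζ ≫ e = evy := Spec.map_injective (by
      rw [← cancel_mono (X.fromSpecResidueField (f ζ)), hy, Spec.map_comp, Category.assoc,
        Scheme.Hom.SpecMap_residueFieldMap_fromSpecResidueField, ← Category.assoc, he]
      exact ht)
    exact finrank_le_of_algHom (embEquiv (f.residueFieldMap ζ) evy ⟨e, hcomm⟩)
  exact key η hfζ ev hev inferInstance

end SimpConnLib

end
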