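import Groth.Agent.SimpConnLib.Line
import Groth.Agent.S1582
import Mathlib.RingTheory.TensorProduct.MvPolynomial

/-! # A simply connected smooth proper model of affine space -/

set_option autoImplicit false
set_option linter.style.haveILetI false
set_option backward.isDefEq.respectTransparency false
set_option backward.isDefEq.respectTransparency.types false
set_option maxHeartbeats 1000000

universe u

open CategoryTheory CategoryTheory.Limits AlgebraicGeometry
open scoped TensorProduct

noncomputable section

namespace SimpConnLib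

variable (k : Type u) [Field k]

/-- Affine space over a field. -/
abbrev aff (r : ℕ) : Spec (CommRingCat.of (MvPolynomial (Fin r) k)) ⟶ Spec (CommRingCat.of k) :=
  Spec.map (CommRingCat.ofHom (algebraMap k (MvPolynomial (Fin r) k)))

theorem exists_chart_line : ∃ j : Spec (CommRingCat.of (MvPolynomial (Fin 1) k)) ⟶ CohB1.ProjSpace 1 k,
    IsOpenImmersion j ∧ j ≫ CohB1.ProjSpace.toSpec 1 k = aff k 1 := by
  let X₀ : MvPolynomial (Fin (1 + 1)) k := MvPolynomial.X 0
  have hX : X₀ ∈ CohB1.polyGrading 1 k 1 := GradedCechLib.X_mem 1 k 0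
  let e := RingEquiv.ofBijective _ (GenusZeroLib.chartPoly_bijective 1 k 0)
  refine ⟨Spec.map e.symm.toCommRingCatIso.hom ≫ Proj.awayι (CohB1.polyGrading 1 k) X₀ hX one_pos, inferInstance, ?_⟩
  show (Spec.map e.symm.toCommRingCatIso.hom ≫ Proj.awayι (CohB1.polyGrading 1 k) X₀ hX one_pos) ≫
    Proj.toSpecZero (CohB1.polyGrading 1 k) ≫
      Spec.map (CommRingCat.ofHom (algebraMap k (CohB1.polyGrading 1 k 0))) = _
  rw [Category.assoc, Proj.awayι_toSpecZero_assoc, ← Spec.map_comp, ← Spec.map_comp]
  refine congrArg Spec.map (CommRingCat.hom_ext (RingHom.ext fun c => ?_))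
  show e.symm (GradedCechLib.cst 1 k (MvPolynomial.X 0) c) = MvPolynomial.C c
  rw [RingEquiv.symm_apply_eq]
  show _ = GenusZeroLib.chartPoly 1 k 0 (MvPolynomial.C c)
  simp [GenusZeroLib.chartPoly]

theorem exists_iso_affine_prod (r : ℕ) :
    ∃ w : Spec (CommRingCat.of (MvPolynomial (Fin (r + 1)) k)) ⟶ pullback (aff k r) (aff k 1),
      IsIso w ∧ w ≫ pullback.fst _ _ ≫ aff k r = aff k (r + 1) := by
  let e : MvPolynomial (Fin r) k ⊗[k] MvPolynomial (Fin 1) k ≃ₐ[k] MvPolynomial (Fin (r + 1)) k :=
    (MvPolynomial.tensorEquivSum k (Fin r) (Fin 1) k).trans (MvPolynomial.renameEquiv k finSumFinEquiv)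
  refine ⟨Spec.map e.toRingEquiv.toCommRingCatIso.hom ≫
    (pullbackSpecIso k (MvPolynomial (Fin r) k) (MvPolynomial (Fin 1) k)).inv, inferInstance, ?_⟩
  rw [Category.assoc, pullbackSpecIso_inv_fst_assoc]
  show Spec.map _ ≫ Spec.map _ ≫ Spec.map _ = Spec.map _
  rw [← Spec.map_comp, ← Spec.map_comp]
  exact congrArg Spec.map (CommRingCat.hom_ext (RingHom.ext fun c => e.commutes c))

/-- A simply connected smooth proper integral scheme containing affine space. -/
theorem exists_model [IsAlgClosed k] (r : ℕ) :
    ∃ (P : Scheme.{u}) (p : P ⟶ Spec (CommRingCat.of k))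
      (j : Spec (CommRingCat.of (MvPolynomial (Fin r) k)) ⟶ P),
      IsProper p ∧ Smooth p ∧ IsIntegral P ∧ SC P ∧ IsOpenImmersion j ∧ j ≫ p = aff k r := by
  induction r with
  | zero =>
    haveI : IsIso (aff k 0) := by
      unfold aff
      rw [show CommRingCat.ofHom (algebraMap k (MvPolynomial (Fin 0) k)) =
        (MvPolynomial.isEmptyRingEquiv k (Fin 0)).symm.toCommRingCatIso.hom from
        CommRingCat.hom_ext (RingHom.ext fun c => by simp [MvPolynomial.isEmptyRingEquiv]; rfl)]
      infer_instance
    exact ⟨Spec (CommRingCat.of k), 𝟙 _, aff k 0, inferInstance, inferInstance, inferInstance, sc_field k,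
      inferInstance, Category.comp_id _⟩
  | succ r ih =>
    obtain ⟨P, p, j, hp, hs, hi, hsc, hj, hjp⟩ := ih
    obtain ⟨l, hl, hlp⟩ := exists_chart_line k
    obtain ⟨w, hw, hwp⟩ := exists_iso_affine_prod k r
    let t := CohB1.ProjSpace.toSpec 1 k
    haveI : IsProper t := ProjDegLib.toSpec_isProper k 1
    haveI : Smooth t := GenusZeroLib.smooth_toSpec 1 k
    haveI := GenusZeroLib.isIntegral_projSpace k 1
    haveI : IsIntegral (pullback p t) := Groth.Agent.S1582.result k _ _ p t
    haveI : IsNoetherian P := by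
      haveI : IsLocallyNoetherian P := LocallyOfFiniteType.isLocallyNoetherian p
      haveI : CompactSpace P := QuasiCompact.compactSpace_of_compactSpace p
      exact {}
    haveI : IsNoetherian (CohB1.ProjSpace 1 k) := by
      haveI : IsLocallyNoetherian (CohB1.ProjSpace 1 k) := LocallyOfFiniteType.isLocallyNoetherian t
      haveI : CompactSpace (CohB1.ProjSpace 1 k) := QuasiCompact.compactSpace_of_compactSpace t
      exact {}
    haveI : IsProper (pullback.fst p t) := MorphismProperty.pullback_fst _ _ ‹IsProper t›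
    haveI : Smooth (pullback.fst p t) := MorphismProperty.pullback_fst _ _ ‹Smooth t›
    let μ : pullback (aff k r) (aff k 1) ⟶ pullback p t :=
      pullback.map (aff k r) (aff k 1) p t j l (𝟙 _) (by rw [Category.comp_id, hjp]) (by rw [Category.comp_id, hlp])
    haveI : IsOpenImmersion μ :=
      MorphismProperty.pullbackMap (P := @IsOpenImmersion) hj hl hjp.symm hlp.symm
    refine ⟨pullback p t, pullback.fst p t ≫ p, w ≫ μ, inferInstance, inferInstance, inferInstance,
      SC.prod p t hsc (sc_line k), inferInstance, ?_⟩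
    rw [Category.assoc, pullback.lift_fst_assoc, Category.assoc, hjp]
    exact hwp

end SimpConnLib

end
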