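import Groth.Agent.SimpConnLib.Birat
import Groth.Agent.SimpConnLib.Model
import Groth.Agent.ConicCurveLib.Generic
import Groth.Agent.GeomRedFieldLib.Locus
import Groth.Agent.WeilExtLib.Smooth

/-! # Rational proper normal schemes are simply connected -/

set_option autoImplicit false
set_option linter.style.haveILetI false
set_option backward.isDefEq.respectTransparency false
set_option backward.isDefEq.respectTransparency.types false
set_option maxHeartbeats 1000000

universe u

open CategoryTheory CategoryTheory.Limits AlgebraicGeometry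

noncomputable section

namespace SimpConnLib

/-- A rational function field gives a birational map to a model of affine space. -/
theorem birationalOver_of_algEquiv {k : Type u} [Field k] {X P : Scheme.{u}} [X.Over (Spec (CommRingCat.of k))]
    [IsIntegral X] [LocallyOfFiniteType (X ↘ Spec (CommRingCat.of k))] [IsIntegral P]
    (p : P ⟶ Spec (CommRingCat.of k)) [LocallyOfFiniteType p] (R : Type u) [CommRing R] [IsDomain R] [Algebra k R]
    (j : Spec (CommRingCat.of R) ⟶ P) [IsOpenImmersion j]
    (hj : j ≫ p = Spec.map (CommRingCat.ofHom (algebraMap k R)))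
    (e : letI := Curv2.stalkAlgebra k X (genericPoint X)
      X.presheaf.stalk (genericPoint X) ≃ₐ[k] FractionRing R) :
    Scheme.BirationalOver (X ↘ Spec (CommRingCat.of k)) p := by
  letI := Curv2.stalkAlgebra k X (genericPoint X)
  let a : Spec (CommRingCat.of (FractionRing R)) ⟶ X :=
    Spec.map (e.toRingEquiv.toCommRingCatIso.hom : X.presheaf.stalk (genericPoint X) ⟶ _) ≫
      X.fromSpecStalk (genericPoint X)
  let l : Spec (CommRingCat.of (FractionRing R)) ⟶ Spec (CommRingCat.of R) :=
    Spec.map (CommRingCat.ofHom (algebraMap R (FractionRing R)))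
  haveI : IsPreimmersion l := IsPreimmersion.of_isLocalization (nonZeroDivisors R)
  haveI : IsPreimmersion a := inferInstance
  haveI : IsPreimmersion (l ≫ j) := inferInstance
  haveI : Subsingleton ↥(Spec (CommRingCat.of (FractionRing R))) :=
    inferInstanceAs (Subsingleton (PrimeSpectrum (FractionRing R)))
  haveI : IsIntegral (Spec (CommRingCat.of R)) := inferInstance
  have w : a ≫ (X ↘ Spec (CommRingCat.of k)) = (l ≫ j) ≫ p := by
    simp only [a, l, Category.assoc, GeomRedFieldLib.fromSpecStalk_comp_over, hj]
    rw [← Spec.map_comp, ← Spec.map_comp]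
    refine congrArg Spec.map (CommRingCat.hom_ext (RingHom.ext fun c => ?_))
    exact (e.commutes c).trans (IsScalarTower.algebraMap_apply k R (FractionRing R) c)
  let ξ : ↥(Spec (CommRingCat.of (FractionRing R))) := Classical.arbitrary _
  refine ConicCurveLib.birationalOver_of_common _ p a (l ≫ j) w ξ ?_ ?_
  · refine ((genericPoint_spec X).specializes trivial |>.antisymm ?_).eq.symm
    show a ξ ⤳ genericPoint X
    have : a ξ ∈ Set.range (X.fromSpecStalk (genericPoint X)) := ⟨_, (Scheme.Hom.comp_apply _ _ ξ).symm⟩
    rw [Scheme.range_fromSpecStalk] at this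
    exact this
  · rw [Scheme.Hom.comp_apply, ← genericPoint_eq_of_isOpenImmersion j, genericPoint_eq_bot_of_affine]
    refine congrArg j (PrimeSpectrum.ext ?_)
    show Ideal.comap (algebraMap R (FractionRing R)) ξ.asIdeal = ⊥
    rw [(show ξ.asIdeal = ⊥ from (Ideal.eq_bot_or_top _).resolve_right ξ.2.ne_top), ← RingHom.ker_eq_comap_bot]
    exact (RingHom.injective_iff_ker_eq_bot _).1 (IsFractionRing.injective R (FractionRing R))

/-- A rational proper normal scheme is simply connected. -/
theorem isSplit_of_rational (k : Type u) [Field k] [IsAlgClosed k] (X : Scheme.{u})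
    [X.Over (Spec (CommRingCat.of k))] [IsProper (X ↘ Spec (CommRingCat.of k))] [IsIntegral X]
    (hN : Pi1.IsNormalScheme X) (r : ℕ)
    (e : letI := Curv2.stalkAlgebra k X (genericPoint X)
      X.presheaf.stalk (genericPoint X) ≃ₐ[k] FractionRing (MvPolynomial (Fin r) k)) (Y : FEt.Cat X) :
    Pi1.IsSplit Y := by
  obtain ⟨P, p, j, hp, hs, hi, hsc, hj, hjp⟩ := exists_model k r
  haveI : IsLocallyNoetherian P := LocallyOfFiniteType.isLocallyNoetherian p
  haveI : IsNoetherian X := by
    haveI : IsLocallyNoetherian X := LocallyOfFiniteType.isLocallyNoetherian (X ↘ Spec (CommRingCat.of k))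
    haveI : CompactSpace X := QuasiCompact.compactSpace_of_compactSpace (X ↘ Spec (CommRingCat.of k))
    exact {}
  exact (sc_of_birational (X ↘ Spec (CommRingCat.of k)) hN p (fun x => WeilExtLib.isRegular_stalk_smooth p x) hsc
    (birationalOver_of_algEquiv p (MvPolynomial (Fin r) k) j hjp e)).isSplit Y

end SimpConnLib

end
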