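import Groth.Agent.SimpConnLib.Bound
import Groth.Agent.SimpConnLib.Model
import Groth.Agent.GeomRedFieldLib.Locus
import Groth.Agent.WeilExtLib.Smooth
import Mathlib.AlgebraicGeometry.Birational.RationalMap

/-! # Universal covers of unirational proper normal schemes -/

set_option autoImplicit false
set_option linter.style.haveILetI false
set_option backward.isDefEq.respectTransparency false
set_option backward.isDefEq.respectTransparency.types false
set_option maxHeartbeats 1000000

universe u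

open CategoryTheory hiding ConnectedComponents IsConnected
open CategoryTheory.Limits AlgebraicGeometry WeightLib

noncomputable section

namespace SimpConnLib

theorem surjective_hom {X : Scheme.{u}} [ConnectedSpace X] (Z : FEt.Cat X) [Nonempty Z.left] :
    Surjective Z.hom := by
  let f : Z.left ⟶ X := Z.hom
  haveI : IsFinite f := Z.prop.1
  haveI : Etale f := Z.prop.2
  exact ⟨Set.range_eq_univ.1 (IsClopen.eq_univ (α := X)
    ⟨f.isClosedMap.isClosed_range, f.isOpenMap.isOpen_range⟩ (Set.range_nonempty f))⟩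

/-- A rational map from a simply connected scheme lifts to every cover. -/
theorem exists_lift_of_spread {S X P A : Scheme.{u}} (sX : X ⟶ S) [IsProper sX] [ConnectedSpace X]
    (p : P ⟶ S) [IsIntegral P] [IsNoetherian P] (hreg : ∀ x : P, IsRegularLocalRing (P.presheaf.stalk x))
    (hP : SC P) [IsIntegral A] (j : A ⟶ P) [IsOpenImmersion j] (φ : A.PartialMap X)
    (hφ : φ.hom ≫ sX = φ.domain.ι ≫ j ≫ p) (Z : FEt.Cat X) [Nonempty Z.left] :
    ∃ t : Spec A.functionField ⟶ Z.left, t ≫ Z.hom = φ.fromFunctionField := by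
  let W : P.Opens := j ''ᵁ φ.domain
  let α : (W : Scheme.{u}) ≅ φ.domain := (j.isoImage φ.domain).symm
  let h : (W : Scheme.{u}) ⟶ X := α.hom ≫ φ.hom
  have hW : (W : Set P).Nonempty := φ.dense_domain.nonempty.image j
  have hh : h ≫ sX = W.ι ≫ p := by
    rw [Category.assoc, hφ, ← Category.assoc, ← Category.assoc]
    congr 1
    rw [Category.assoc, Iso.symm_hom, Iso.inv_comp_eq, Scheme.Hom.isoImage_hom_ι]
  obtain ⟨Z', ⟨β⟩⟩ := FEtExt.exists_cover_of_proper sX p
    (⟨W.isOpen.dense hW, fun x _ => hreg x⟩ : FEtExt.DenseReg W) h hh Z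
  haveI := surjective_hom Z
  haveI : Surjective (pullback.snd Z.hom h) := MorphismProperty.pullback_snd _ _ ‹Surjective Z.hom›
  haveI : Nonempty (W : Scheme.{u}) := ⟨⟨_, hW.choose_spec⟩⟩
  obtain ⟨w, -⟩ := (pullback.snd Z.hom h).surjective (Classical.arbitrary _)
  let b : pullback Z.hom h ⟶ pullback Z'.hom W.ι := β.inv.left
  haveI : Nonempty Z'.left := ⟨pullback.fst Z'.hom W.ι (b w)⟩
  obtain ⟨σ, hσ⟩ := hP.exists_section Z'
  let s : (W : Scheme.{u}) ⟶ Z.left :=
    (pullback.lift (W.ι ≫ σ) (𝟙 _) (by rw [Category.assoc, hσ, Category.comp_id, Category.id_comp]) ≫ β.hom.left) ≫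
      pullback.fst Z.hom h
  have hs : s ≫ Z.hom = h := by
    have e : β.hom.left ≫ pullback.snd Z.hom h = pullback.snd Z'.hom W.ι := MorphismProperty.Over.w β.hom
    simp only [s, Category.assoc, pullback.condition, reassoc_of% e, pullback.lift_snd_assoc]
    exact Category.id_comp h
  refine ⟨(φ.domain.fromSpecStalkOfMem (genericPoint A)
    ((genericPoint_specializes _).mem_open φ.domain.2 φ.dense_domain.nonempty.choose_spec) ≫ α.inv) ≫ s, ?_⟩
  rw [Category.assoc, hs]
  simp only [h, Category.assoc, Iso.inv_hom_id_assoc]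
  rfl

/-- A cover of maximal degree dominates every cover. -/
theorem exists_dominating_of_bound {X : Scheme.{u}} [ConnectedSpace X] [IsNoetherian X] {Ω : Type u} [Field Ω]
    [IsAlgClosed Ω] (ξ : Spec (CommRingCat.of Ω) ⟶ X) (d : ℕ)
    (hd : ∀ Z : FEt.Cat X, ConnectedSpace Z.left → Nat.card (FEt.fiberObj ξ Z) ≤ d) :
    ∃ Z₀ : FEt.Cat X, ConnectedSpace Z₀.left ∧ ∀ Z : FEt.Cat X, ConnectedSpace Z.left → Nonempty (Z₀ ⟶ Z) := by
  let N : Set ℕ := {n | ∃ Z : FEt.Cat X, ConnectedSpace Z.left ∧ Nat.card (FEt.fiberObj ξ Z) = n}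
  have hne : N.Nonempty := ⟨_, MorphismProperty.Over.mk ⊤ (𝟙 X) ⟨inferInstance, inferInstance⟩, ‹ConnectedSpace X›, rfl⟩
  have hbdd : BddAbove N := ⟨d, fun n ⟨Z, hZ, e⟩ => e ▸ hd Z hZ⟩
  obtain ⟨Z₀, hZ₀, hmax⟩ := Nat.sSup_mem hne hbdd
  refine ⟨Z₀, hZ₀, fun Z hZ => ?_⟩
  let f₀ : Z₀.left ⟶ X := Z₀.hom
  let f : Z.left ⟶ X := Z.hom
  haveI : IsFinite f₀ := Z₀.prop.1
  haveI : Etale f₀ := Z₀.prop.2
  haveI : IsFinite f := Z.prop.1
  haveI : Etale f := Z.prop.2
  haveI : Surjective f := surjective_hom Z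
  haveI : IsFinite (pullback.fst f₀ f) := MorphismProperty.pullback_fst _ _ ‹IsFinite f›
  haveI : Etale (pullback.fst f₀ f) := MorphismProperty.pullback_fst _ _ ‹Etale f›
  haveI : Surjective (pullback.fst f₀ f) := MorphismProperty.pullback_fst _ _ ‹Surjective f›
  let Q : FEt.Cat X := MorphismProperty.Over.mk ⊤ (pullback.fst f₀ f ≫ f₀) ⟨inferInstance, inferInstance⟩
  haveI : IsNoetherian (pullback f₀ f : Scheme.{u}) := isNoetherian_left Q
  haveI : IsNoetherian Q.left := isNoetherian_left Q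
  obtain ⟨w, -⟩ := (pullback.fst f₀ f).surjective (Classical.arbitrary Z₀.left)
  let c : ConnectedComponents Q.left := ConnectedComponents.mk w
  let D : FEt.Cat X := compCover Q c
  haveI hD : ConnectedSpace D.left := PiGen.connectedSpace_comp Q.left c
  let π : D ⟶ Z₀ := MorphismProperty.Over.homMk ((PiGen.comp Q.left c).ι ≫ pullback.fst f₀ f) (Category.assoc _ _ _)
  let π₀ : D.left ⟶ Z₀.left := π.left
  let dh : D.left ⟶ X := D.hom
  haveI : IsFinite dh := D.prop.1
  haveI : Etale dh := D.prop.2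
  have hπ : π₀ ≫ f₀ = dh := MorphismProperty.Over.w π
  haveI : Etale π₀ := by
    haveI : Etale (π₀ ≫ f₀) := by rw [hπ]; infer_instance
    exact Etale.of_comp π₀ f₀
  haveI : IsFinite π₀ := by
    haveI : IsFinite (π₀ ≫ f₀) := by rw [hπ]; infer_instance
    exact IsFinite.of_comp π₀ f₀
  haveI : LocallyQuasiFinite π₀ := locallyQuasiFinite_of_etale _
  haveI : Surjective π₀ := ⟨Set.range_eq_univ.1 (IsClopen.eq_univ
    ⟨π₀.isClosedMap.isClosed_range, π₀.isOpenMap.isOpen_range⟩ (Set.range_nonempty π₀))⟩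
  have hsurj : Function.Surjective ((FEt.fiber ξ).map π) := fun (s : FEt.fiberObj ξ Z₀) => by
    obtain ⟨x, hx⟩ := π₀.surjective (img s.1)
    obtain ⟨⟨v, hv⟩, -⟩ := exists_gpt π₀ x s.1 hx
    exact ⟨⟨v, show v ≫ dh = ξ by rw [← hπ, reassoc_of% hv]; exact s.2⟩, Subtype.ext hv⟩
  haveI := FEtColim.finite_fiberObj ξ D
  haveI := FEtColim.finite_fiberObj ξ Z₀
  have hle : Nat.card (FEt.fiberObj ξ D) ≤ Nat.card (FEt.fiberObj ξ Z₀) := by
    rw [hmax]; exact le_csSup hbdd ⟨D, hD, rfl⟩
  haveI : IsIso π := FEtColim.isIso_of_bijective ξ π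
    ((Nat.bijective_iff_surjective_and_card _).2 ⟨hsurj, le_antisymm hle (Nat.card_le_card_of_surjective _ hsurj)⟩)
  exact ⟨inv π ≫ MorphismProperty.Over.homMk ((PiGen.comp Q.left c).ι ≫ pullback.snd f₀ f)
    ((Category.assoc _ _ _).trans (congrArg ((PiGen.comp Q.left c).ι ≫ ·) pullback.condition.symm))⟩

/-- Universal covers exist for unirational proper normal schemes. -/
theorem exists_universal_of_unirational (k : Type u) [Field k] [IsAlgClosed k] (X : Scheme.{u})
    [X.Over (Spec (CommRingCat.of k))] [IsProper (X ↘ Spec (CommRingCat.of k))] [IsIntegral X]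
    (hN : Pi1.IsNormalScheme X) (r : ℕ)
    (φ : letI := Curv2.stalkAlgebra k X (genericPoint X)
      X.presheaf.stalk (genericPoint X) →ₐ[k] FractionRing (MvPolynomial (Fin r) k)) :
    ∃ Z₀ : FEt.Cat X, ConnectedSpace Z₀.left ∧ ∀ Z : FEt.Cat X, ConnectedSpace Z.left → Nonempty (Z₀ ⟶ Z) := by
  letI := Curv2.stalkAlgebra k X (genericPoint X)
  let sX := X ↘ Spec (CommRingCat.of k)
  let R := MvPolynomial (Fin r) k
  let M := FractionRing R
  obtain ⟨P, p, j, hp, hs, hi, hsc, hj, hjp⟩ := exists_model k r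
  haveI : IsNoetherian P := by
    haveI : IsLocallyNoetherian P := LocallyOfFiniteType.isLocallyNoetherian p
    haveI : CompactSpace P := QuasiCompact.compactSpace_of_compactSpace p
    exact {}
  haveI : IsNoetherian X := by
    haveI : IsLocallyNoetherian X := LocallyOfFiniteType.isLocallyNoetherian sX
    haveI : CompactSpace X := QuasiCompact.compactSpace_of_compactSpace sX
    exact {}
  let A := Spec (CommRingCat.of R)
  haveI : IsDomain ↑(CommRingCat.of R) := inferInstanceAs (IsDomain R)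
  letI : Algebra R A.functionField :=
    (StructureSheaf.toStalk R (genericPoint A)).hom.toAlgebra
  haveI : IsFractionRing R A.functionField :=
    functionField_isFractionRing_of_affine (CommRingCat.of R)
  let ψ : M ≃ₐ[R] A.functionField := IsLocalization.algEquiv (nonZeroDivisors R) _ _
  let a : Spec (CommRingCat.of M) ⟶ X :=
    Spec.map (CommRingCat.ofHom φ.toRingHom) ≫ X.fromSpecStalk (genericPoint X)
  have ha : a ≫ sX = Spec.map (CommRingCat.ofHom (algebraMap k M)) := by
    rw [Category.assoc, GeomRedFieldLib.fromSpecStalk_comp_over, ← Spec.map_comp]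
    exact congrArg Spec.map (CommRingCat.hom_ext (RingHom.ext fun c => φ.commutes c))
  have haη : img a = genericPoint X := by
    have : img a ∈ Set.range (X.fromSpecStalk (genericPoint X)) := ⟨_, (Scheme.Hom.comp_apply _ _ _).symm⟩
    rw [Scheme.range_fromSpecStalk] at this
    exact (Specializes.antisymm this (genericPoint_specializes _)).eq
  let ψC : CommRingCat.of M ≅ A.functionField := ψ.toRingEquiv.toCommRingCatIso
  let a' : Spec A.functionField ⟶ X := Spec.map ψC.hom ≫ a
  have ha' : a' ≫ sX = A.fromSpecStalk (genericPoint A) ≫ aff k r := by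
    rw [Category.assoc, ha, Spec.fromSpecStalk_eq', ← Spec.map_comp, ← Spec.map_comp]
    exact congrArg Spec.map (CommRingCat.hom_ext (RingHom.ext fun c =>
      (congrArg ψ (IsScalarTower.algebraMap_apply k R M c)).trans (ψ.commutes _)))
  let pm : A.PartialMap X := Scheme.PartialMap.ofFromSpecStalk (aff k r) sX a' ha'
  have hpm : pm.fromFunctionField = a' := Scheme.PartialMap.fromSpecStalkOfMem_ofFromSpecStalk _ _ _ _
  have hpmS : pm.hom ≫ sX = pm.domain.ι ≫ j ≫ p := by
    rw [hjp]; exact Scheme.PartialMap.ofFromSpecStalk_comp _ _ _ _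
  obtain ⟨d, hd⟩ := exists_bound sX M a ha haη
  refine exists_dominating_of_bound (gpt (genericPoint X)) d fun Z hZ => ?_
  let f : Z.left ⟶ X := Z.hom
  haveI : IsFinite f := Z.prop.1
  haveI : Etale f := Z.prop.2
  obtain ⟨t, ht⟩ := exists_lift_of_spread sX p (fun x => WeilExtLib.isRegular_stalk_smooth p x) hsc j pm hpmS Z
  refine hd Z (isIntegral_cover hN f) ⟨Spec.map ψC.inv ≫ t, ?_⟩ _ _ (img_gpt _)
  rw [Category.assoc, ht, hpm, ← Category.assoc, ← Spec.map_comp, Iso.hom_inv_id, Spec.map_id, Category.id_comp]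

end SimpConnLib

end
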