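import Groth.Agent.FEtKunnethLib.Dominate
import Groth.Agent.PiGenLib.Descend

/-! # Schemes without nontrivial connected finite étale covers -/

set_option autoImplicit false
set_option linter.style.haveILetI false
set_option backward.isDefEq.respectTransparency false
set_option backward.isDefEq.respectTransparency.types false
set_option maxHeartbeats 1000000

universe u

open CategoryTheory hiding ConnectedComponents IsConnected
open CategoryTheory.Limits AlgebraicGeometry WeightLib TopologicalSpace

noncomputable section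

namespace SimpConnLib

/-- Every connected finite étale cover is trivial. -/
def SC (X : Scheme.{u}) : Prop :=
  ∀ Z : FEt.Cat X, ConnectedSpace Z.left → IsIso Z.hom

/-- A connected finite étale cover with a section is trivial. -/
theorem isIso_of_section {X Z : Scheme.{u}} [Nonempty X] [ConnectedSpace Z] (f : Z ⟶ X) [IsFinite f] [Etale f]
    (s : X ⟶ Z) (hs : s ≫ f = 𝟙 X) : IsIso f := by
  haveI : IsOpenImmersion s := FFDescLib.isOpenImmersion_of_section f s hs
  haveI : IsClosedImmersion s := by
    haveI : IsClosedImmersion (s ≫ f) := by rw [hs]; infer_instance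
    exact IsClosedImmersion.of_comp s f
  haveI : Surjective s := ⟨Set.range_eq_univ.1
    (IsClopen.eq_univ ⟨s.isClosedEmbedding.isClosed_range, s.isOpenEmbedding.isOpen_range⟩ (Set.range_nonempty _))⟩
  haveI : IsIso s := (isIso_iff_isOpenImmersion_and_surjective s).2 ⟨inferInstance, inferInstance⟩
  haveI : IsIso (s ≫ f) := by rw [hs]; infer_instance
  exact IsIso.of_isIso_comp_left s f

/-- An algebraically closed field has no connected cover. -/
theorem sc_field (k : Type u) [Field k] [IsAlgClosed k] : SC (Spec (CommRingCat.of k)) := fun Z hZ => by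
  let z : Z.left ⟶ Spec (CommRingCat.of k) := Z.hom
  haveI : IsFinite z := Z.prop.1
  haveI : Etale z := Z.prop.2
  haveI : LocallyQuasiFinite z := locallyQuasiFinite_of_etale _
  obtain ⟨⟨a, ha⟩, -⟩ := exists_gpt z (Classical.arbitrary Z.left) (𝟙 (Spec (CommRingCat.of k)))
    (Subsingleton.elim (α := PrimeSpectrum k) _ _)
  exact isIso_of_section z a ha

section

variable {X : Scheme.{u}} (Z : FEt.Cat X) [IsNoetherian Z.left] (c : ConnectedComponents Z.left)

/-- A connected component of a cover as a cover. -/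
def compCover : FEt.Cat X :=
  MorphismProperty.Over.mk ⊤ ((PiGen.comp Z.left c).ι ≫ Z.hom) (by
    haveI : IsFinite Z.hom := Z.prop.1
    haveI : Etale Z.hom := Z.prop.2
    haveI : IsClosedImmersion (PiGen.comp Z.left c).ι :=
      IsClosedImmersion.of_isPreimmersion _ (by rw [Scheme.Opens.range_ι]; exact PiGen.isClosed_comp Z.left c)
    exact ⟨inferInstanceAs (IsFinite ((PiGen.comp Z.left c).ι ≫ Z.hom)),
      inferInstanceAs (Etale ((PiGen.comp Z.left c).ι ≫ Z.hom))⟩)

theorem SC.isIso_comp (h : SC X) : IsIso ((PiGen.comp Z.left c).ι ≫ Z.hom) :=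
  h (compCover Z c) (PiGen.connectedSpace_comp Z.left c)

end

theorem isNoetherian_left {X : Scheme.{u}} [IsNoetherian X] (Z : FEt.Cat X) : IsNoetherian Z.left := by
  let z : Z.left ⟶ X := Z.hom
  haveI : IsFinite z := Z.prop.1
  haveI : IsLocallyNoetherian Z.left := LocallyOfFiniteType.isLocallyNoetherian z
  haveI : CompactSpace Z.left := QuasiCompact.compactSpace_of_compactSpace z
  exact {}

/-- A nonempty cover of such a scheme has a section. -/
theorem SC.exists_section {X : Scheme.{u}} (h : SC X) [IsNoetherian X] (Z : FEt.Cat X) [Nonempty Z.left] :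
    ∃ s : X ⟶ Z.left, s ≫ Z.hom = 𝟙 X := by
  haveI := isNoetherian_left Z
  let c : ConnectedComponents Z.left := ConnectedComponents.mk (Classical.arbitrary Z.left)
  haveI := h.isIso_comp Z c
  exact ⟨inv ((PiGen.comp Z.left c).ι ≫ Z.hom) ≫ (PiGen.comp Z.left c).ι, by
    rw [Category.assoc, IsIso.inv_hom_id]⟩

/-- All covers of such a scheme split. -/
theorem SC.isSplit {X : Scheme.{u}} (h : SC X) [IsNoetherian X] (Z : FEt.Cat X) : Pi1.IsSplit Z := by
  haveI := isNoetherian_left Z
  haveI := ClopenFFLib.finite_connectedComponents_of_noetherian (Y := Z.left)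
  have hi := fun c => h.isIso_comp Z c
  let σ : ConnectedComponents Z.left → (X ⟶ Z.left) := fun c =>
    haveI := hi c
    inv ((PiGen.comp Z.left c).ι ≫ Z.hom) ≫ (PiGen.comp Z.left c).ι
  have hσ : ∀ c, σ c ≫ Z.hom = 𝟙 X := fun c => by
    haveI := hi c
    simp [σ]
  haveI : ∀ c, IsOpenImmersion (σ c) := fun c => by
    haveI := hi c
    infer_instance
  have hr : ∀ c, (σ c).opensRange = PiGen.comp Z.left c := fun c => by
    haveI := hi c
    exact (Scheme.Hom.opensRange_comp_of_isIso _ _).trans (Scheme.Opens.opensRange_ι _)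
  obtain ⟨hcol⟩ := nonempty_isColimit_cofanMk_of σ (by
    refine top_le_iff.mp fun z _ => TopologicalSpace.Opens.mem_iSup.mpr ⟨ConnectedComponents.mk z, ?_⟩
    rw [hr]; rfl) (fun c c' hcc => by
    show Disjoint (σ c).opensRange (σ c').opensRange
    rw [hr, hr, disjoint_iff_inf_le]
    exact fun z hz => hcc (hz.1.symm.trans hz.2))
  haveI : IsIso (Sigma.desc σ) :=
    (Cofan.nonempty_isColimit_iff_isIso_sigmaDesc (Cofan.mk _ σ)).mp ⟨hcol⟩
  exact ⟨ConnectedComponents Z.left, inferInstance, (asIso (Sigma.desc σ)).symm, fun c => by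
    rw [Iso.symm_inv, asIso_hom, Sigma.ι_desc_assoc]
    exact hσ c⟩

/-- A product with a proper factor of such schemes is such a scheme. -/
theorem SC.prod {k : Type u} [Field k] [IsAlgClosed k] {P T : Scheme.{u}} (pP : P ⟶ Spec (CommRingCat.of k))
    [IsProper pP] (pT : T ⟶ Spec (CommRingCat.of k)) [ConnectedSpace P] [ConnectedSpace T]
    [IsNoetherian P] [IsNoetherian T] (hP : SC P) (hT : SC T) : SC (pullback pP pT) := fun W hW => by
  let ω : W.left ⟶ pullback pP pT := W.hom
  haveI : IsFinite ω := W.prop.1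
  haveI : Etale ω := W.prop.2
  haveI : LocallyOfFiniteType pP := inferInstance
  obtain ⟨x₀, hx₀⟩ : ∃ x₀ : Spec (CommRingCat.of k) ⟶ P, x₀ ≫ pP = 𝟙 _ := by
    haveI : JacobsonSpace P := LocallyOfFiniteType.jacobsonSpace pP
    obtain ⟨x, -, hx⟩ := nonempty_inter_closedPoints (X := P) (Z := Set.univ) Set.univ_nonempty
      isOpen_univ.isLocallyClosed
    exact ⟨pointOfClosedPoint pP x hx, pointOfClosedPoint_comp _ _ _⟩
  let j : T ⟶ pullback pP pT :=
    pullback.lift (pT ≫ x₀) (𝟙 T) (by rw [Category.assoc, hx₀, Category.comp_id, Category.id_comp])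
  obtain ⟨X', Y', φ, hφ, hsurj⟩ := FEtKunneth.exists_dominated pP pT W x₀ j (pullback.lift_fst _ _ _)
    (pullback.lift_snd _ _ _)
  haveI : Nonempty W.left := inferInstance
  obtain ⟨w, -⟩ := hsurj.surj (Classical.arbitrary W.left)
  haveI : Nonempty X'.left := ⟨pullback.fst (X'.hom ≫ pP) (Y'.hom ≫ pT) w⟩
  haveI : Nonempty Y'.left := ⟨pullback.snd (X'.hom ≫ pP) (Y'.hom ≫ pT) w⟩
  haveI : Nonempty (pullback pP pT : Scheme.{u}) := ⟨ω (Classical.arbitrary W.left)⟩
  obtain ⟨sX, hsX⟩ := hP.exists_section X'
  obtain ⟨sY, hsY⟩ := hT.exists_section Y'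
  refine isIso_of_section ω (pullback.lift (pullback.fst pP pT ≫ sX) (pullback.snd pP pT ≫ sY) (by
    simp only [Category.assoc, reassoc_of% hsX, reassoc_of% hsY, pullback.condition]) ≫ φ) ?_
  show (_ ≫ φ) ≫ W.hom = _
  rw [Category.assoc, hφ]
  apply pullback.hom_ext
  · simp only [Category.assoc, pullback.lift_fst, pullback.lift_fst_assoc, hsX, Category.comp_id, Category.id_comp]
  · simp only [Category.assoc, pullback.lift_snd, pullback.lift_snd_assoc, hsY, Category.comp_id, Category.id_comp]

end SimpConnLib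

end
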