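import Groth.Agent.SimpConnLib.Basic
import Groth.Agent.FEtExtLib.Regular
import Groth.Agent.S0244
import Groth.Agent.CurveVBLib.Integral
import Mathlib.AlgebraicGeometry.Birational.Birational

/-! # Birational invariance of simple connectedness -/

set_option autoImplicit false
set_option linter.style.haveILetI false
set_option backward.isDefEq.respectTransparency false
set_option backward.isDefEq.respectTransparency.types false
set_option maxHeartbeats 1000000

universe u

open CategoryTheory CategoryTheory.Limits AlgebraicGeometry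

noncomputable section

namespace SimpConnLib

/-- A connected cover of a normal integral scheme is integral. -/
theorem isIntegral_cover {X Z : Scheme.{u}} [IsIntegral X] [IsNoetherian X] (hN : Pi1.IsNormalScheme X) (f : Z ⟶ X)
    [IsFinite f] [Etale f] [ConnectedSpace Z] : IsIntegral Z := by
  haveI : IsLocallyNoetherian Z := LocallyOfFiniteType.isLocallyNoetherian f
  haveI : CompactSpace Z := QuasiCompact.compactSpace_of_compactSpace f
  haveI : IsNoetherian Z := {}
  haveI : ∀ z : Z, IsDomain (Z.presheaf.stalk z) := fun z => (ClopenFFLib.normal_of_etale f hN z).1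
  exact CurveVBLib.isIntegral_of_connected

theorem connectedSpace_restrict {X Z V : Scheme.{u}} [IsIntegral X] [IsNoetherian X] (hN : Pi1.IsNormalScheme X)
    (f : Z ⟶ X) [IsFinite f] [Etale f] [ConnectedSpace Z] (g : V ⟶ X) [IsOpenImmersion g] [Nonempty V] :
    ConnectedSpace (pullback f g : Scheme.{u}) := by
  haveI := isIntegral_cover hN f
  haveI : Surjective f := ⟨Set.range_eq_univ.1 (IsClopen.eq_univ
    ⟨f.isClosedMap.isClosed_range, f.isOpenMap.isOpen_range⟩ (Set.range_nonempty _))⟩
  haveI : IsOpenImmersion (pullback.fst f g) := MorphismProperty.pullback_fst _ _ ‹IsOpenImmersion g›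
  haveI : Surjective (pullback.snd f g) := MorphismProperty.pullback_snd _ _ ‹Surjective f›
  obtain ⟨w, -⟩ := (pullback.snd f g).surjective (Classical.arbitrary V)
  haveI : Nonempty (pullback f g : Scheme.{u}) := ⟨w⟩
  haveI : IsIntegral (pullback f g) := isIntegral_of_isOpenImmersion (pullback.fst f g)
  infer_instance

/-- A proper normal scheme birational to a regular simply connected scheme is simply connected. -/
theorem sc_of_birational {S X P : Scheme.{u}} (sX : X ⟶ S) [IsProper sX] [IsIntegral X] [IsNoetherian X]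
    (hN : Pi1.IsNormalScheme X) (sP : P ⟶ S) [IsLocallyNoetherian P]
    (hreg : ∀ x : P, IsRegularLocalRing (P.presheaf.stalk x)) (h : SC P) (hb : Scheme.BirationalOver sX sP) :
    SC X := fun C hC => by
  obtain ⟨F, hF⟩ := hb
  let f : C.left ⟶ X := C.hom
  haveI : IsFinite f := C.prop.1
  haveI : Etale f := C.prop.2
  let U := F.source
  let V := F.target
  let g : (V : Scheme.{u}) ⟶ X := F.iso.inv ≫ U.ι
  have hg : g ≫ sX = V.ι ≫ sP := by
    rw [Category.assoc, Iso.inv_comp_eq]
    exact Eq.symm hF
  haveI : Nonempty (U : Scheme.{u}) := ⟨⟨_, F.dense_source.nonempty.choose_spec⟩⟩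
  haveI : Nonempty (V : Scheme.{u}) := ⟨F.iso.hom (Classical.arbitrary (U : Scheme.{u}))⟩
  have hV : FEtExt.DenseReg V := ⟨F.dense_target, fun x _ => hreg x⟩
  obtain ⟨Z, ⟨α⟩⟩ := FEtExt.exists_cover_of_proper sX sP hV g hg C
  haveI : ConnectedSpace (pullback f g : Scheme.{u}) := connectedSpace_restrict hN f g
  let a : pullback f g ⟶ pullback Z.hom V.ι := α.inv.left
  have ha : IsIso a := ⟨⟨α.hom.left, congrArg (fun t => t.left) α.inv_hom_id, congrArg (fun t => t.left) α.hom_inv_id⟩⟩
  haveI : ConnectedSpace Z.left := by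
    let z : Z.left ⟶ P := Z.hom
    haveI : Etale z := Z.prop.2
    have hd : DenseRange (a ≫ pullback.fst z V.ι) := by
      show Dense (Set.range (a ≫ pullback.fst z V.ι))
      rw [Scheme.Hom.comp_base, TopCat.coe_comp, Set.range_comp, a.surjective.range_eq, Set.image_univ,
        Scheme.Pullback.range_fst, Scheme.Opens.range_ι]
      exact hV.1.preimage z.isOpenMap
    exact { toPreconnectedSpace := hd.preconnectedSpace (a ≫ pullback.fst z V.ι).continuous,
            toNonempty := ⟨(a ≫ pullback.fst z V.ι) (Classical.arbitrary _)⟩ }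
  haveI : IsIso Z.hom := h Z inferInstance
  haveI : IsIso (pullback.snd f g) := by
    rw [show pullback.snd f g = a ≫ pullback.snd Z.hom V.ι from (MorphismProperty.Over.w α.inv).symm]
    infer_instance
  haveI : IsIso (pullback.snd f (F.iso.hom ≫ g)) := by
    rw [show pullback.snd f (F.iso.hom ≫ g) = (pullbackLeftPullbackSndIso f g F.iso.hom).inv ≫
      pullback.snd (pullback.snd f g) F.iso.hom from
      ((Iso.inv_comp_eq _).2 (pullbackLeftPullbackSndIso_hom_snd _ _ _).symm).symm]
    infer_instance
  haveI : IsIso (pullback.snd f U.ι) := by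
    have e : F.iso.hom ≫ g = U.ι := Iso.hom_inv_id_assoc _ _
    rw [← e]; infer_instance
  let O : FEt.Cat X := MorphismProperty.Over.mk ⊤ (𝟙 X) ⟨inferInstance, inferInstance⟩
  let ψ : (FEt.restrict U.ι).obj O ⟶ (FEt.restrict U.ι).obj C :=
    MorphismProperty.Over.homMk (pullback.snd (𝟙 X) U.ι ≫ inv (pullback.snd f U.ι)) (by
      show (_ ≫ _) ≫ pullback.snd f U.ι = _
      rw [Category.assoc, IsIso.inv_hom_id, Category.comp_id]
      rfl)
  obtain ⟨G, -⟩ := (Groth.Agent.S0244.result hN U F.dense_source.nonempty).1.map_surjective ψ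
  exact isIso_of_section f G.left (MorphismProperty.Over.w G)

end SimpConnLib

end
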