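import Groth.Agent.SimpConnLib.Basic
import Groth.Agent.EtaleChiLib.Main
import Groth.Agent.CurvLib.RRBasic
import Groth.Agent.ProjDegLib.Criterion
import Groth.Agent.GenusZeroLib.PSpace
import Groth.Agent.GenusZeroLib.PSmooth
import Groth.Agent.RRVanLib.GG
import Groth.Agent.S7843
import Groth.Agent.S14339

/-! # The projective line has no connected cover -/

set_option autoImplicit false
set_option linter.style.haveILetI false
set_option backward.isDefEq.respectTransparency false
set_option backward.isDefEq.respectTransparency.types false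
set_option maxHeartbeats 1000000

universe u

open CategoryTheory CategoryTheory.Limits AlgebraicGeometry

noncomputable section

namespace SimpConnLib

theorem sc_line (k : Type u) [Field k] [IsAlgClosed k] : SC (CohB1.ProjSpace 1 k) := fun Z hZ => by
  let P := CohB1.ProjSpace 1 k
  let f : Z.left ⟶ P := Z.hom
  haveI : IsFinite f := Z.prop.1
  haveI : Etale f := Z.prop.2
  letI : P.Over (Spec (CommRingCat.of k)) := ⟨CohB1.ProjSpace.toSpec 1 k⟩
  letI : Z.left.Over (Spec (CommRingCat.of k)) := ⟨f ≫ CohB1.ProjSpace.toSpec 1 k⟩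
  haveI := ProjDegLib.toSpec_isProper k 1
  haveI : Smooth (CohB1.ProjSpace.toSpec 1 k) := GenusZeroLib.smooth_toSpec 1 k
  haveI : IsProper (P ↘ Spec (CommRingCat.of k)) := ProjDegLib.toSpec_isProper k 1
  haveI : Smooth (P ↘ Spec (CommRingCat.of k)) := GenusZeroLib.smooth_toSpec 1 k
  haveI : IsProper (Z.left ↘ Spec (CommRingCat.of k)) := inferInstanceAs (IsProper (f ≫ CohB1.ProjSpace.toSpec 1 k))
  haveI : Smooth (Z.left ↘ Spec (CommRingCat.of k)) := inferInstanceAs (Smooth (f ≫ CohB1.ProjSpace.toSpec 1 k))
  haveI : IsIntegral P := GenusZeroLib.isIntegral_projSpace k 1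
  haveI : IsIntegral Z.left := Groth.Agent.S7843.isIntegral_of_smooth (k := k)
  have hdP : topologicalKrullDim P = 1 := GenusZeroLib.dim_projSpace k 1
  haveI : Surjective f := ⟨Set.range_eq_univ.1 (IsClopen.eq_univ
    ⟨f.isClosedMap.isClosed_range, f.isOpenMap.isOpen_range⟩ (Set.range_nonempty _))⟩
  have hdZ : topologicalKrullDim Z.left = 1 := (AbSchLib.topologicalKrullDim_eq_of_finite_surjective f).trans hdP
  have h0P := Groth.Agent.S14339.finrank_h0_projSpace_one k
  have hgP : Module.finrank k (Coh.HH P (Coh.structureModule P) 1) = 0 := by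
    haveI := GradedCechLib.subsingleton_HH_structure (n := 1) (R := k) 0
    exact Module.finrank_zero_of_subsingleton
  have h0Z := RRVanLib.finrank_h0_structure (k := k) (X := Z.left)
  have he := EtaleChiLib.euler_etale (k := k) hdP f rfl
  have hY : Curv2.euler k P (Coh.structureModule P) = 1 := by
    rw [CurvLib.euler_curve (k := k) hdP, h0P, hgP]
    norm_num
  have hX : Curv2.euler k Z.left (Coh.structureModule Z.left) ≤ 1 := by
    rw [CurvLib.euler_curve (k := k) hdZ, h0Z]
    omega
  rw [hY, _root_.mul_one] at he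
  have hd0 : CurvLib.genRank ((Coh.push f).obj (Coh.structureModule Z.left)) ≠ 0 := fun h0 =>
    (EtaleChiLib.isEmpty_of_genRank_zero (k := k) hdP f h0).elim (genericPoint Z.left)
  exact EtaleChiLib.isIso_of_genRank_one (k := k) hdP f rfl (by omega)

end SimpConnLib

end
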